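import Mathlib.Topology.Constructible
import Mathlib.Topology.NoetherianSpace
import Mathlib.Topology.Sober
import Mathlib.Topology.Semicontinuity.Basic

/-!
# Noetherian induction on quasi-sober Noetherian spaces
-/

set_option autoImplicit false

universe u

open TopologicalSpace Topology

namespace Groth.Agent.NoethSober

variable {X : Type u} [TopologicalSpace X]

/-- A constructible set and a point `η`: near `η`, inside `closure {η}`, the set is all or nothing. -/
theorem exists_open_inter_closure_singleton {C : Set X} (hC : IsConstructible C) (η : X) :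
    ∃ U : Set X, IsOpen U ∧ η ∈ U ∧
      ((η ∈ C ∧ U ∩ closure {η} ⊆ C) ∨ (η ∉ C ∧ U ∩ closure {η} ⊆ Cᶜ)) := by
  induction hC using IsConstructible.empty_union_induction with
  | open_retrocompact U hU _ =>
    by_cases h : η ∈ U
    · exact ⟨U, hU, h, Or.inl ⟨h, Set.inter_subset_left⟩⟩
    · refine ⟨Set.univ, isOpen_univ, trivial, Or.inr ⟨h, fun x hx hxU => ?_⟩⟩
      obtain ⟨y, hyU, hy⟩ := mem_closure_iff.1 hx.2 U hU hxU
      exact h (Set.mem_singleton_iff.1 hy ▸ hyU)
  | union s hs t ht h₁ h₂ =>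
    obtain ⟨U, hU, hηU, h₁⟩ := h₁
    obtain ⟨V, hV, hηV, h₂⟩ := h₂
    refine ⟨U ∩ V, hU.inter hV, ⟨hηU, hηV⟩, ?_⟩
    rcases h₁ with ⟨h₁, h₁'⟩ | ⟨h₁, h₁'⟩
    · exact Or.inl ⟨Or.inl h₁, fun x hx => Or.inl (h₁' ⟨hx.1.1, hx.2⟩)⟩
    · rcases h₂ with ⟨h₂, h₂'⟩ | ⟨h₂, h₂'⟩
      · exact Or.inl ⟨Or.inr h₂, fun x hx => Or.inr (h₂' ⟨hx.1.2, hx.2⟩)⟩
      · refine Or.inr ⟨fun h => h.elim h₁ h₂, fun x hx h => ?_⟩
        exact h.elim (h₁' ⟨hx.1.1, hx.2⟩) (h₂' ⟨hx.1.2, hx.2⟩)
  | compl s hs h =>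
    obtain ⟨U, hU, hηU, ⟨h, h'⟩ | ⟨h, h'⟩⟩ := h
    · exact ⟨U, hU, hηU, Or.inr ⟨fun hn => hn h, fun x hx hn => hn (h' hx)⟩⟩
    · exact ⟨U, hU, hηU, Or.inl ⟨h, h'⟩⟩

theorem exists_open_inter_closure_subset {C : Set X} (hC : IsConstructible C) {η : X} (h : η ∈ C) :
    ∃ U : Set X, IsOpen U ∧ η ∈ U ∧ U ∩ closure {η} ⊆ C := by
  obtain ⟨U, hU, hηU, ⟨_, h'⟩ | ⟨h', _⟩⟩ := exists_open_inter_closure_singleton hC η
  · exact ⟨U, hU, hηU, h'⟩
  · exact absurd h h'

variable [NoetherianSpace X] [QuasiSober X]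

/-- Noetherian induction through generic points. -/
theorem induction_generic {P : Set X → Prop} (hempty : P ∅)
    (hunion : ∀ Z W : Set X, P Z → P W → P (Z ∪ W))
    (hgen : ∀ η : X, (∀ W : Set X, IsClosed W → W ⊆ closure {η} → η ∉ W → P W) → P (closure {η}))
    (Z : Set X) (hZ : IsClosed Z) : P Z := by
  suffices h : ∀ Z : Closeds X, P (Z : Set X) from h ⟨Z, hZ⟩
  intro Z
  induction Z using WellFoundedLT.induction with
  | ind Z ih =>
    obtain ⟨S, hS, hSc, hSi, hSu⟩ := NoetherianSpace.exists_finite_set_isClosed_irreducible Z.2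
    change P (Z : Set X)
    rw [show (Z : Set X) = ⋃₀ S from hSu]
    have hP : ∀ t ∈ S, P t := fun t ht => by
      have hgt : IsGenericPoint (hSi t ht).genericPoint t := by
        have h1 := (hSi t ht).isGenericPoint_genericPoint_closure
        rwa [(hSc t ht).closure_eq] at h1
      have ht' : closure {(hSi t ht).genericPoint} = t := hgt
      rw [← ht']
      refine hgen _ fun W hW hWt hη => ih ⟨W, hW⟩ (lt_of_le_of_ne ?_ ?_)
      · intro x hx
        change x ∈ (Z : Set X)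
        rw [show (Z : Set X) = ⋃₀ S from hSu]
        exact ⟨t, ht, ht' ▸ hWt hx⟩
      · intro e
        apply hη
        have e' : W = (Z : Set X) := congrArg SetLike.coe e
        rw [e', show (Z : Set X) = ⋃₀ S from hSu]
        exact ⟨t, ht, hgt.mem⟩
    clear hSu hSc hSi
    induction S, hS using Set.Finite.induction_on with
    | empty => rwa [Set.sUnion_empty]
    | @insert a s _ _ ihs =>
      rw [Set.sUnion_insert]
      exact hunion _ _ (hP a (Set.mem_insert a s)) (ihs fun t ht => hP t (Set.mem_insert_of_mem a ht))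

theorem finite_image_of_constructible_fibres {T : Type*} (h : X → T)
    (hfib : ∀ t, IsConstructible (h ⁻¹' {t})) : (Set.range h).Finite := by
  rw [← Set.image_univ]
  refine induction_generic (P := fun Z => (h '' Z).Finite) (by simp)
    (fun Z W h₁ h₂ => by rw [Set.image_union]; exact h₁.union h₂) (fun η ih => ?_) _ isClosed_univ
  obtain ⟨U, hU, hηU, hUC⟩ := exists_open_inter_closure_subset (hfib (h η)) (η := η) rfl
  refine ((ih (closure {η} \ U) (isClosed_closure.sdiff hU) Set.sdiff_subset fun hn => hn.2 hηU).insert (h η)).subset ?_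
  rintro _ ⟨x, hx, rfl⟩
  by_cases hxU : x ∈ U
  · exact Or.inl (hUC ⟨hxU, hx⟩)
  · exact Or.inr ⟨x, ⟨hx, hxU⟩, rfl⟩

theorem exists_eq_univ_of_directed_cover {ι : Type*} [Preorder ι] [IsDirected ι (· ≤ ·)] [Nonempty ι]
    (E : ι → Set X) (hmono : Monotone E) (hE : ∀ a, IsConstructible (E a))
    (hcov : ⋃ a, E a = Set.univ) : ∃ a, E a = Set.univ := by
  suffices h : ∃ a, Set.univ ⊆ E a from h.imp fun a ha => Set.univ_subset_iff.1 ha
  refine induction_generic (P := fun Z => ∃ a, Z ⊆ E a) ⟨Classical.arbitrary ι, Set.empty_subset _⟩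
    (fun Z W ⟨a, ha⟩ ⟨b, hb⟩ => ?_) (fun η ih => ?_) _ isClosed_univ
  · obtain ⟨c, hac, hbc⟩ := directed_of (· ≤ ·) a b
    exact ⟨c, Set.union_subset (ha.trans (hmono hac)) (hb.trans (hmono hbc))⟩
  · obtain ⟨a, ha⟩ := Set.mem_iUnion.1 (hcov.symm ▸ Set.mem_univ η)
    obtain ⟨U, hU, hηU, hUC⟩ := exists_open_inter_closure_subset (hE a) ha
    obtain ⟨b, hb⟩ := ih (closure {η} \ U) (isClosed_closure.sdiff hU) Set.sdiff_subset fun hn => hn.2 hηU
    obtain ⟨c, hac, hbc⟩ := directed_of (· ≤ ·) a b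
    refine ⟨c, fun x hx => ?_⟩
    by_cases hxU : x ∈ U
    · exact hmono hac (hUC ⟨hxU, hx⟩)
    · exact hmono hbc (hb ⟨hx, hxU⟩)

/-- A constructible set stable under specialization is closed. -/
theorem isClosed_of_stableUnderSpecialization {C : Set X} (hC : IsConstructible C)
    (h : StableUnderSpecialization C) : IsClosed C := by
  rw [← closure_subset_iff_isClosed]
  have h1 : closure (C ∩ Set.univ) ⊆ C := by
    refine induction_generic (P := fun Z => closure (C ∩ Z) ⊆ C) (by simp)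
      (fun Z W h₁ h₂ => by
        rw [Set.inter_union_distrib_left, closure_union]
        exact Set.union_subset h₁ h₂) (fun η ih => ?_) _ isClosed_univ
    obtain ⟨U, hU, hηU, ⟨hη, -⟩ | ⟨-, hUC⟩⟩ := exists_open_inter_closure_singleton hC η
    · intro x hx
      have : x ∈ closure {η} := closure_minimal Set.inter_subset_right isClosed_closure hx
      exact h (specializes_iff_mem_closure.2 this) hη
    · refine Set.Subset.trans (closure_mono ?_) (ih (closure {η} \ U) (isClosed_closure.sdiff hU)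
        Set.sdiff_subset fun hn => hn.2 hηU)
      exact fun x hx => ⟨hx.1, hx.2, fun hxU => hUC ⟨hxU, hx.2⟩ hx.1⟩
  rwa [Set.inter_univ] at h1

theorem upperSemicontinuous_iff {T : Type*} [LinearOrder T] (h : X → T)
    (hfib : ∀ t, IsConstructible (h ⁻¹' {t})) (hfin : (Set.range h).Finite) :
    UpperSemicontinuous h ↔ ∀ x x' : X, x' ⤳ x → h x' ≤ h x := by
  rw [upperSemicontinuous_iff_isOpen_preimage]
  refine ⟨fun hu x x' hs => not_lt.1 fun hlt => ?_, fun hs t => ?_⟩
  · have hx : x ∈ h ⁻¹' Set.Iio (h x') := hlt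
    exact lt_irrefl _ (hs.mem_open (hu (h x')) hx : h x' < h x')
  · have hC : IsConstructible (h ⁻¹' Set.Ici t) := by
      have he : h ⁻¹' Set.Ici t = ⋃ s ∈ {s | s ∈ Set.range h ∧ t ≤ s}, h ⁻¹' {s} := by
        ext x
        simp only [Set.mem_preimage, Set.mem_Ici, Set.mem_iUnion, Set.mem_singleton_iff, Set.mem_setOf_eq]
        exact ⟨fun hx => ⟨h x, ⟨⟨x, rfl⟩, hx⟩, rfl⟩, fun ⟨s, ⟨_, hts⟩, e⟩ => e ▸ hts⟩
      rw [he]
      exact IsConstructible.biUnion (hfin.subset fun s hs => hs.1) fun s _ => hfib s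
    have h1 := isClosed_of_stableUnderSpecialization hC fun x' x hsp hx => le_trans hx (hs x x' hsp)
    have h2 : (h ⁻¹' Set.Ici t)ᶜ = h ⁻¹' Set.Iio t := by
      ext x; simp
    exact h2 ▸ h1.isOpen_compl

end Groth.Agent.NoethSober
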